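import Cfsg.Agent.H94.BaseTwo.SmallModelsOf
import Cfsg.Agent.H14.BaseTwoCert.S32
import Cfsg.Agent.H14.BaseTwoCert.S33
import Cfsg.Agent.H14.BaseTwoCert.S33m
import Cfsg.Agent.H14.BaseTwoCert.S34
import Cfsg.Agent.H14.BaseTwoCert.S52
import Cfsg.Agent.H14.BaseTwoCert.S53
import Cfsg.Agent.H14.BaseTwoCert.S54

/-!
The small models have regular pairs.
-/

set_option autoImplicit false

namespace Cfsg.Agent.H94.BaseTwo

open Cfsg.Agent.H14.BaseTwoCert

universe u

theorem smallModels : Cfsg.Agent.H86.BaseTwo.SmallModels.{u} :=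
  smallModels_of_valid ⟨S32.certs, S32.tree, S32.good, S32.refuted⟩
    ⟨S33.certs, S33.tree, S33.good, S33.refuted⟩ ⟨S34.certs, S34.tree, S34.good, S34.refuted⟩
    ⟨S33m.certs, S33m.tree, S33m.good, S33m.refuted⟩ ⟨S52.certs, S52.tree, S52.good, S52.refuted⟩
    ⟨S53.certs, S53.tree, S53.good, S53.refuted⟩ ⟨S54.certs, S54.tree, S54.good, S54.refuted⟩

end Cfsg.Agent.H94.BaseTwo
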