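import Mathlib

/-!
A checker for certificates of regular pairs in the small symplectic-type models.

Vectors of length `2 ^ d` are binary trees. The image of each generator of the layer under a map
fixing a pair is tried among all candidates and must respect the linear relations recorded between
the images of the pair; a complete choice gives the matrix of the map.
-/

set_option autoImplicit false

namespace Cfsg.Agent.H94.BaseTwo

/-- Vectors, split by the highest bit of the coordinate. -/
inductive Vec
  | leaf (x : ℕ)
  | node (l r : Vec)

namespace Vec

/-- Equality test. -/
def beq : Vec → Vec → Bool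
  | leaf x, leaf y => x == y
  | node a b, node a' b' => beq a a' && beq b b'
  | _, _ => false

/-- The coordinate `z` of a vector of depth `d`. -/
def get : ℕ → Vec → ℕ → ℕ
  | 0, leaf x, _ => x
  | d + 1, node l r, z => if z.testBit d then get d r z else get d l z
  | _, _, _ => 0

/-- Being of depth `d` with entries below `p`. -/
def wf (p : ℕ) : ℕ → Vec → Bool
  | 0, leaf x => Nat.blt x p
  | d + 1, node l r => wf p d l && wf p d r
  | _, _ => false

/-- The zero vector. -/
def zero : ℕ → Vec
  | 0 => leaf 0
  | d + 1 => node (zero d) (zero d)

/-- The coordinate vectors. -/
def unit : ℕ → ℕ → Vec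
  | 0, _ => leaf 1
  | d + 1, z => if z.testBit d then node (zero d) (unit d z) else node (unit d z) (zero d)

/-- Addition modulo `p`. -/
def add (p : ℕ) : Vec → Vec → Vec
  | leaf x, leaf y => leaf ((x + y) % p)
  | node a b, node a' b' => node (add p a a') (add p b b')
  | t, _ => t

/-- Scaling modulo `p`. -/
def smul (p c : ℕ) : Vec → Vec
  | leaf x => leaf (c * x % p)
  | node a b => node (smul p c a) (smul p c b)

/-- Being zero. -/
def isZero : Vec → Bool
  | leaf x => x == 0
  | node a b => isZero a && isZero b

/-- The monomial operator with translation `a` and signs `b`. -/
def pauli (p a b : ℕ) : ℕ → Vec → Vec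
  | d + 1, node l r =>
    let l' := pauli p a b d l
    let r' := if b.testBit d then smul p (p - 1) (pauli p a b d r) else pauli p a b d r
    if a.testBit d then node r' l' else node l' r'
  | _, t => t

/-- The quaternion operator on the lowest coordinate. -/
def quat (p : ℕ) : ℕ → Vec → Vec
  | 1, node l r => node (add p r l) (add p l (smul p (p - 1) r))
  | d + 2, node l r => node (quat p (d + 1) l) (quat p (d + 1) r)
  | _, t => t

/-- Evaluate the entries before going on. -/
def force {α : Type} : Vec → (Vec → α) → α
  | leaf 0, k => k (leaf 0)
  | leaf (n + 1), k => k (leaf (n + 1))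
  | node l r, k => force l fun l' => force r fun r' => k (node l' r')

/-- Evaluate all entries of a list before going on. -/
def forceList {α : Type} : List Vec → (List Vec → α) → α
  | [], k => k []
  | v :: vs, k => force v fun v' => forceList vs fun vs' => k (v' :: vs')

/-- Equality test of lists. -/
def beqList : List Vec → List Vec → Bool
  | [], [] => true
  | v :: vs, w :: ws => beq v w && beqList vs ws
  | _, _ => false

end Vec

/-- A signed translation, possibly after the quaternion operator. -/
structure El where
  c : ℕ
  a : ℕ
  b : ℕ
  j : Bool

/-- The action of an element. -/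
def El.act (p d : ℕ) (e : El) (v : Vec) : Vec :=
  Vec.smul p e.c (Vec.pauli p e.a e.b d (if e.j then Vec.quat p d v else v))

/-- The elements allowed in a model. -/
def El.ok (p d : ℕ) (minus : Bool) (e : El) : Bool :=
  Nat.blt 0 e.c && Nat.blt e.c p && Nat.blt e.a (2 ^ d) && Nat.blt e.b (2 ^ d) &&
    (if minus then e.a % 2 == e.b % 2 else !e.j)

/-- All allowed elements. -/
def El.all (p d : ℕ) (minus : Bool) : List El :=
  (List.range (p - 1)).flatMap fun c => (List.range (2 ^ d)).flatMap fun a =>
    ((List.range (2 ^ d)).filter fun b => !minus || a % 2 == b % 2).flatMap fun b =>
      if minus then [⟨c + 1, a, b, false⟩, ⟨c + 1, a, b, true⟩] else [⟨c + 1, a, b, false⟩]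

/-- Coefficients with positions in a list of vectors. -/
abbrev Terms := List (ℕ × ℕ)

/-- A linear combination. -/
def comb (p d : ℕ) (ims : List Vec) : Terms → Vec
  | [] => Vec.zero d
  | (c, i) :: ts => Vec.add p (Vec.smul p c (ims.getD i (Vec.zero d))) (comb p d ims ts)

/-- A pair with relations: at each level the old terms plus the new generator applied to the new
terms give zero; `span` expresses the coordinate vectors in the final list. -/
structure PairCert where
  gens : List El
  v : Vec
  w : Vec
  rels : List (List (Terms × Terms))
  span : List Terms

/-- The two sides of the relations of one level. -/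
def sides (p d : ℕ) (ims : List Vec) : List (Terms × Terms) → List (Vec × Vec)
  | [] => []
  | r :: rs => (comb p d ims r.1, comb p d ims r.2) :: sides p d ims rs

/-- An element respects the relations of one level. -/
def pass (p d : ℕ) (e : El) : List (Vec × Vec) → Bool
  | [] => true
  | s :: ss => Vec.isZero (Vec.add p s.1 (e.act p d s.2)) && pass p d e ss

/-- Evaluate before going on. -/
def forcePairs {α : Type} : List (Vec × Vec) → (List (Vec × Vec) → α) → α
  | [], k => k []
  | s :: ss, k => Vec.force s.1 fun z => Vec.force s.2 fun y => forcePairs ss fun ss' => k ((z, y) :: ss')

/-- The parity of the number of ones, below sixteen. -/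
def par (x : ℕ) : Bool := Nat.testBit 0x6996 x

/-- Whether two monomial operators anticommute. -/
def El.anti (e f : El) : Bool := par (e.a &&& f.b) != par (f.a &&& e.b)

/-- The scalar square of a monomial operator. -/
def El.square (p : ℕ) (e : El) : ℕ :=
  if par (e.a &&& e.b) then (p - e.c * e.c % p) % p else e.c * e.c % p

/-- An image of the next generator: monomial images have the square of the generator. -/
def levels (p : ℕ) (minus : Bool) (cands : List El) :
    List El → List (List (Terms × Terms)) → List (El × List (Terms × Terms) × List El)
  | g :: gs, r :: rs =>
      (g, r, cands.filter fun e => minus || e.square p == g.square p) :: levels p minus cands gs rs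
  | _, _ => []

/-- After choosing the image `e` of `g`, keep the images with the same commutation signs. -/
def narrow (minus : Bool) (g e : El) :
    List (El × List (Terms × Terms) × List El) → List (El × List (Terms × Terms) × List El)
  | [] => []
  | l :: ls => (l.1, l.2.1, l.2.2.filter fun f => minus || e.anti f == g.anti l.1) :: narrow minus g e ls

/-- The matrices of the maps respecting all relations, given by their columns. -/
def search (p d : ℕ) (minus : Bool) (span : List Terms) :
    ℕ → List (El × List (Terms × Terms) × List El) → List Vec → List (List Vec)
  | _, [], ims => [span.map (comb p d ims)]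
  | 0, _ :: _, _ => []
  | fuel + 1, l :: ls, ims => forcePairs (sides p d ims l.2.1) fun ss =>
      l.2.2.flatMap fun e =>
        if pass p d e ss then
          Vec.forceList (ims.map (e.act p d)) fun new =>
            search p d minus span fuel (narrow minus l.1 e ls) (ims ++ new)
        else []

/-- The relations hold for the generators, and the coordinate vectors are reached. -/
def domain (p d : ℕ) (span : List Terms) : List El → List (List (Terms × Terms)) → List Vec → Bool
  | e :: es, r :: rs, ims =>
      pass p d e (sides p d ims r) && domain p d span es rs (ims ++ ims.map (e.act p d))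
  | [], [], ims => Vec.beqList (span.map (comb p d ims)) ((List.range (2 ^ d)).map (Vec.unit d))
  | _, _, _ => false

/-- The identity matrix. -/
def idMat (d : ℕ) : List Vec := (List.range (2 ^ d)).map (Vec.unit d)

/-- Equality test of lists of matrices. -/
def beqMats : List (List Vec) → List (List Vec) → Bool
  | [], [] => true
  | a :: as, b :: bs => Vec.beqList a b && beqMats as bs
  | _, _ => false

/-- The pair is valid and `stab` lists the nontrivial maps fixing it. -/
def goodPair (p d : ℕ) (minus : Bool) (C : PairCert) (stab : List (List Vec)) : Bool :=
  C.gens.all (El.ok p d minus) && Vec.wf p d C.v && Vec.wf p d C.w && !Vec.isZero C.v &&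
    domain p d C.span C.gens C.rels [C.v, C.w] &&
    (minus || Nat.ble d 4) &&
    beqMats ((search p d minus C.span C.gens.length
        (levels p minus (El.all p d minus) C.gens C.rels) [C.v, C.w]).filter
      fun m => !Vec.beqList m (idMat d)) stab

/-- A matrix applied to a vector. -/
def applyMat (p d : ℕ) (m : List Vec) (v : Vec) : Vec :=
  (List.range (2 ^ d)).foldr
    (fun z acc => Vec.add p (Vec.smul p (Vec.get d v z) (m.getD z (Vec.zero d))) acc) (Vec.zero d)

/-- The product of two matrices. -/
def mulMat (p d : ℕ) (m m' : List Vec) : List Vec := m'.map (applyMat p d m)

/-- The product of the chosen matrices along a word. -/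
def wordMat (p d : ℕ) (chosen : List (List Vec)) : List ℕ → List Vec
  | [] => idMat d
  | i :: w => mulMat p d (chosen.getD i (idMat d)) (wordMat p d chosen w)

/-- A power of a matrix. -/
def powMat (p d : ℕ) (m : List Vec) : ℕ → List Vec
  | 0 => idMat d
  | n + 1 => Vec.forceList (powMat p d m n) fun r => mulMat p d m r

mutual

/-- Search trees: pick a pair and branch on the map fixing it, until a product has order `p`. -/
inductive Tree
  | dead (word : List ℕ)
  | node (i : ℕ) (kids : Forest)

/-- The children of a node. -/
inductive Forest
  | nil
  | cons (t : Tree) (rest : Forest)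

end

/-- Children from a list. -/
def Forest.ofList : List Tree → Forest
  | [] => Forest.nil
  | t :: ts => Forest.cons t (Forest.ofList ts)

/-- A node with a list of children. -/
def Tree.branch (i : ℕ) (kids : List Tree) : Tree := Tree.node i (Forest.ofList kids)

mutual

/-- The tree shows that no group of order prime to `p` contains a map from each list. -/
def refute (p d : ℕ) (sets : List (List (List Vec))) (chosen : List (List Vec)) : Tree → Bool
  | Tree.dead w => Vec.forceList (wordMat p d chosen w) fun m =>
      !Vec.beqList m (idMat d) && Vec.beqList (powMat p d m p) (idMat d)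
  | Tree.node i kids => Nat.blt i sets.length && refuteKids p d sets chosen (sets.getD i []) kids

/-- The branches of a node. -/
def refuteKids (p d : ℕ) (sets : List (List (List Vec))) (chosen : List (List Vec)) :
    List (List Vec) → Forest → Bool
  | [], Forest.nil => true
  | m :: ms, Forest.cons k ks => refute p d sets (chosen ++ [m]) k && refuteKids p d sets chosen ms ks
  | _, _ => false

end

end Cfsg.Agent.H94.BaseTwo
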