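import Cfsg.Agent.H94.BaseTwo.CertSound

/-!
A model whose certificates are refuted has a regular pair.
-/

set_option autoImplicit false
set_option linter.unusedSectionVars false
set_option linter.style.haveILetI false

namespace Cfsg.Agent.H94.BaseTwo

open Cfsg.Agent.H86.BaseThree Cfsg.Agent.H86.BaseTwo Cfsg.Agent.H52.RegPair

universe u

variable {p : ℕ} [Fact p.Prime] {K : Type u} [Field K] [CharP K p]

theorem natCast_ne_zero {n : ℕ} (h0 : 0 < n) (h1 : n < p) : (n : K) ≠ 0 := fun h =>
  h0.ne' (CharP.natCast_injOn_Iio K p h1 pos (by simpa using h))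

theorem exists_natCast [Finite K] (hK : Nat.card K = p) (k : K) : ∃ n, n < p ∧ (n : K) = k := by
  have hinj : Function.Injective fun n : Fin p => ((n : ℕ) : K) := fun m n h =>
    Fin.ext (CharP.natCast_injOn_Iio K p m.2 n.2 h)
  obtain ⟨n, hn⟩ := (hinj.bijective_of_nat_card_le (by rw [hK, Nat.card_fin])).2 k
  exact ⟨n, n.2, hn⟩

theorem sign_inj (hp2 : p ≠ 2) {b c : Bool} (h : sign K b = sign K c) : b = c := by
  have hne : (-1 : K) ≠ 1 := Ring.neg_one_ne_one_of_char_ne_two (by rw [ringChar.eq K p]; exact hp2)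
  cases b <;> cases c <;> simp only [sign, if_true, Bool.false_eq_true, if_false] at h <;>
    first | rfl | exact absurd h hne | exact absurd h.symm hne

theorem mem_all {d : ℕ} {minus : Bool} {C : El} (h0 : 0 < C.c) (h1 : C.c < p) (ha : C.a < 2 ^ d)
    (hb : C.b < 2 ^ d) (hm : minus = true → C.a % 2 = C.b % 2) (hj : C.j = true → minus = true) :
    C ∈ El.all p d minus := by
  obtain ⟨c, a, b, j⟩ := C
  simp only [El.all, List.mem_flatMap, List.mem_range, List.mem_filter]
  refine ⟨c - 1, by simp only at h0 h1; omega, a, ha, b, ⟨hb, ?_⟩, ?_⟩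
  · cases minus
    · rfl
    · simpa using hm rfl
  · have hc : c - 1 + 1 = c := by simp only at h0; omega
    cases minus
    · cases j
      · simp [hc]
      · exact absurd (hj rfl) (by simp)
    · cases j <;> simp [hc]

theorem mem_all_plus {d : ℕ} {C : El} (h : C ∈ El.all p d false) :
    C.j = false ∧ 0 < C.c ∧ C.c < p ∧ C.a < 2 ^ d ∧ C.b < 2 ^ d := by
  simp only [El.all, List.mem_flatMap, List.mem_range, List.mem_filter] at h
  obtain ⟨c, hc, a, ha, b, ⟨hb, -⟩, h⟩ := h
  simp only [Bool.false_eq_true, if_false, List.mem_singleton] at h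
  subst h
  exact ⟨rfl, Nat.succ_pos c, by show c + 1 < p; omega, ha, hb⟩

theorem ok_iff {d : ℕ} {minus : Bool} {e : El} (h : El.ok p d minus e = true) :
    0 < e.c ∧ e.c < p ∧ e.a < 2 ^ d ∧ e.b < 2 ^ d ∧ (minus = true → e.a % 2 = e.b % 2) ∧
      (e.j = true → minus = true) := by
  simp only [El.ok, Bool.and_eq_true, Nat.blt_eq] at h
  obtain ⟨⟨⟨⟨h1, h2⟩, h3⟩, h4⟩, h5⟩ := h
  cases minus
  · simp only [Bool.false_eq_true, if_false, Bool.not_eq_true'] at h5
    exact ⟨h1, h2, h3, h4, fun h => absurd h (by simp), fun h => by rw [h5] at h; exact absurd h (by simp)⟩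
  · simp only [if_true, beq_iff_eq] at h5
    exact ⟨h1, h2, h3, h4, fun _ => h5, fun _ => rfl⟩

theorem opFun_ne_zero {d : ℕ} {e : El} (hj : e.j = false) (ha : e.a < 2 ^ d) (h0 : 0 < e.c)
    (h1 : e.c < p) {v : Fin (2 ^ d) → K} (hv : v ≠ 0) : opFun K d e v ≠ 0 := by
  intro h
  refine hv (funext fun z => ?_)
  have := congrFun h ⟨z.1 ^^^ e.a, Nat.xor_lt_two_pow z.2 ha⟩
  rw [opFun_mono hj ha] at this
  have hz : ((z.1 ^^^ e.a) ^^^ e.a) = z.1 := by rw [Nat.xor_assoc, Nat.xor_self, Nat.xor_zero]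
  simp only [hz, Fin.eta, Pi.zero_apply] at this ⊢
  rcases hs : sg d e.b z.1 <;> simpa [hs, sign, natCast_ne_zero (K := K) h0 h1] using this

theorem domain_length {d : ℕ} {span : List Terms} : ∀ {es : List El} {rs : List (List (Terms × Terms))}
    {ims : List Vec}, domain p d span es rs ims = true → es.length = rs.length
  | [], [], _, _ => rfl
  | [], _ :: _, _, h => by simp [domain] at h
  | _ :: _, [], _, h => by simp [domain] at h
  | e :: es, r :: rs, ims, h => by
      simp only [domain, Bool.and_eq_true] at h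
      simp [domain_length h.2]

theorem narrow_eq (minus : Bool) (g e : El) : ∀ ls : List (El × List (Terms × Terms) × List El),
    narrow minus g e ls =
      ls.map fun l => (l.1, l.2.1, l.2.2.filter fun f => minus || e.anti f == g.anti l.1)
  | [] => rfl
  | l :: ls => by simp [narrow, narrow_eq minus g e ls]

theorem levels_spec (minus : Bool) (cands : List El) : ∀ {gs : List El}
    {rs : List (List (Terms × Terms))}, gs.length = rs.length →
    (levels p minus cands gs rs).map (fun l => l.1) = gs ∧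
      (levels p minus cands gs rs).map (fun l => l.2.1) = rs ∧
      ∀ l ∈ levels p minus cands gs rs,
        l.2.2 = cands.filter fun e => minus || e.square p == l.1.square p
  | [], [], _ => by simp [levels]
  | [], _ :: _, h => by simp at h
  | _ :: _, [], h => by simp at h
  | g :: gs, r :: rs, h => by
      obtain ⟨h1, h2, h3⟩ := levels_spec minus cands (gs := gs) (rs := rs) (by simpa using h)
      refine ⟨by simp [levels, h1], by simp [levels, h2], fun l hl => ?_⟩
      simp only [levels, List.mem_cons] at hl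
      rcases hl with rfl | hl
      exacts [rfl, h3 l hl]

section Map

variable {G : Type u} [Group G] [Finite G] {V : Type u} [AddCommGroup V] [DistribMulAction G V]
  [Module K V] {d : ℕ} (Φ : (Fin (2 ^ d) → K) →ₗ[K] V)

/-- `C` is the image of `e` under the map, on all coordinate functions. -/
def ImageF (g : G) (e C : El) : Prop :=
  ∀ x y : Fin (2 ^ d) → K, g • Φ x = Φ y → g • Φ (opFun K d e x) = Φ (opFun K d C y)

/-- `m` is the matrix of the map. -/
def Mat (p : ℕ) (g : G) (m : List Vec) : Prop :=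
  (∀ v ∈ m, Vec.Wf p d v) ∧ m.length = 2 ^ d ∧
    ∀ z, z < 2 ^ d → Sends Φ g (Vec.unit d z) (m.getD z (Vec.zero d))

theorem getD_wf {ims : List Vec} (h : ∀ v ∈ ims, Vec.Wf p d v) (i : ℕ) :
    Vec.Wf p d (ims.getD i (Vec.zero d)) := by
  rw [List.getD_eq_getElem?_getD]
  rcases hi : ims[i]? with _ | v
  · exact Vec.zero_wf pos d
  · exact h v (List.mem_of_getElem? hi)

theorem cast_smul_map (g : G) (n : ℕ) (y : V) : g • ((n : K) • y) = (n : K) • g • y := by
  rw [Nat.cast_smul_eq_nsmul, Nat.cast_smul_eq_nsmul]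
  exact (DistribSMul.toAddMonoidHom V g).map_nsmul _ _

variable {Φ}

theorem image_of_imageF (hd : 0 < d) {g : G} {e C : El} (ha : e.a < 2 ^ d) (ha' : C.a < 2 ^ d)
    (h : ImageF Φ g e C) : Image (p := p) Φ g e C := by
  intro t t' ht ht' hs
  unfold Sends
  rw [val_act hd ht ha, val_act hd ht' ha']
  exact h _ _ hs

theorem square_eq (hd : d < 5) (hΦ : Function.Injective Φ) {g : G} {v : Fin (2 ^ d) → K} (hv : v ≠ 0)
    (hfix : g • Φ v = Φ v) {e C : El} (he : e.j = false) (hC : C.j = false) (ha : e.a < 2 ^ d)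
    (hb : e.b < 2 ^ d) (ha' : C.a < 2 ^ d) (hb' : C.b < 2 ^ d) (h : ImageF Φ g e C) :
    C.square p = e.square p := by
  have h2 := h _ _ (h _ _ hfix)
  rw [opFun_square hd he ha hb, opFun_square hd hC ha' hb', map_smul, cast_smul_map, hfix,
    ← map_smul] at h2
  obtain ⟨z, hz⟩ := Function.ne_iff.1 hv
  have h3 : (e.square p : K) = (C.square p : K) := mul_right_cancel₀ hz (congrFun (hΦ h2) z)
  have hlt : ∀ f : El, f.square p < p := fun f => by
    unfold El.square; split_ifs <;> exact Nat.mod_lt _ pos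
  exact (CharP.natCast_injOn_Iio K p (hlt e) (hlt C) h3).symm

theorem anti_eq (hp2 : p ≠ 2) (hd : d < 5) (hΦ : Function.Injective Φ) {g : G}
    {v : Fin (2 ^ d) → K} (hv : v ≠ 0) (hfix : g • Φ v = Φ v) {e f C D : El} (he : e.j = false)
    (hf : f.j = false) (hC : C.j = false) (hD : D.j = false) (hC0 : 0 < C.c) (hC1 : C.c < p)
    (hD0 : 0 < D.c) (hD1 : D.c < p) (ha : e.a < 2 ^ d) (hb : e.b < 2 ^ d) (ha' : f.a < 2 ^ d)
    (hb' : f.b < 2 ^ d) (hCa : C.a < 2 ^ d) (hCb : C.b < 2 ^ d) (hDa : D.a < 2 ^ d) (hDb : D.b < 2 ^ d)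
    (h : ImageF Φ g e C) (h' : ImageF Φ g f D) : C.anti D = e.anti f := by
  have h1 := h _ _ (h' _ _ hfix)
  have h2 := h' _ _ (h _ _ hfix)
  have hs : ∀ (b : Bool) (y : V), g • (sign K b • y) = sign K b • g • y := fun b y => by
    cases b <;> simp [sign]
  rw [opFun_anti hd he hf ha hb ha' hb', map_smul, hs, h2,
    opFun_anti hd hC hD hCa hCb hDa hDb, ← map_smul] at h1
  obtain ⟨z, hz⟩ := Function.ne_iff.1 (opFun_ne_zero hD hDa hD0 hD1
    (opFun_ne_zero (p := p) hC hCa hC0 hC1 hv))
  exact (sign_inj hp2 (mul_right_cancel₀ hz (congrFun (hΦ h1) z))).symm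

/-- The search finds the matrix of every map fixing the first vector. -/
theorem search_mem (hp2 : p ≠ 2) (hd0 : 0 < d) (hd : d < 5) (minus : Bool) (span : List Terms)
    (hΦ : Function.Injective Φ) {g : G} {v : Fin (2 ^ d) → K} (hv : v ≠ 0) (hfix : g • Φ v = Φ v)
    (himg : ∀ e : El, El.ok p d minus e = true → ∃ C ∈ El.all p d minus, C.a < 2 ^ d ∧ ImageF Φ g e C) :
    ∀ (n : ℕ) (lv : List (El × List (Terms × Terms) × List El)) (fuel : ℕ) (ims ims' : List Vec),
      lv.length = n → n ≤ fuel →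
      (∀ l ∈ lv, El.ok p d minus l.1 = true ∧
        ∀ C ∈ El.all p d minus, ImageF Φ g l.1 C → C ∈ l.2.2) →
      Step (p := p) Φ g ims ims' →
      domain p d span (lv.map fun l => l.1) (lv.map fun l => l.2.1) ims = true →
      ∃ m ∈ search p d minus span fuel lv ims', Mat Φ p g m := by
  intro n
  induction n with
  | zero =>
    intro lv fuel ims ims' hlen _ _ hstep hdom
    obtain rfl := List.length_eq_zero_iff.1 hlen
    simp only [List.map_nil, domain, Vec.beqList_iff] at hdom
    refine ⟨span.map (comb p d ims'), by cases fuel <;> simp [search], ?_, ?_, fun z hz => ?_⟩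
    · intro x hx
      obtain ⟨ts, -, rfl⟩ := List.mem_map.1 hx
      exact comb_wf hstep.wf' ts
    · have := congrArg List.length hdom
      simpa using this
    · have hlen2 : span.length = 2 ^ d := by simpa using congrArg List.length hdom
      have hzs : z < span.length := by omega
      have h1 : Vec.unit d z = comb p d ims span[z] := by
        have := List.getElem_of_eq hdom (i := z) (by simpa using hzs)
        simpa using this.symm
      rw [List.getD_eq_getElem _ _ (by simpa using hzs), List.getElem_map, h1]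
      exact sends_comb Φ g (cast_smul_map g) hstep.wf hstep.wf' hstep.sends _
  | succ n ih =>
    intro lv fuel ims ims' hlen hfuel hlv hstep hdom
    obtain ⟨fuel, rfl⟩ : ∃ k, fuel = k + 1 := ⟨fuel - 1, by omega⟩
    obtain ⟨l, ls, rfl⟩ := List.exists_cons_of_length_eq_add_one hlen
    simp only [List.map_cons, domain, Bool.and_eq_true] at hdom
    obtain ⟨hok, hcand⟩ := hlv l (List.mem_cons_self)
    obtain ⟨C, hC, hCa, hCi⟩ := himg l.1 hok
    obtain ⟨ho0, ho1, hoa, hob, -, hoj⟩ := ok_iff hok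
    have hImg : Image (p := p) Φ g l.1 C := image_of_imageF hd0 hoa hCa hCi
    have hpass : pass p d C (sides p d ims' l.2.1) = true := by
      have h0 := hdom.1
      rw [pass_iff, sides_eq] at h0 ⊢
      intro s hs
      obtain ⟨x, hx, rfl⟩ := List.mem_map.1 hs
      have h := h0 _ (List.mem_map.2 ⟨x, hx, rfl⟩)
      have w1 := comb_wf (p := p) hstep.wf x.1
      have w2 := comb_wf (p := p) hstep.wf x.2
      have w1' := comb_wf (p := p) hstep.wf' x.1
      have w2' := comb_wf (p := p) hstep.wf' x.2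
      rw [isZero_iff_val (K := K) (Vec.add_wf pos w1 (act_wf w2 _)), val_add w1 (act_wf w2 _)] at h
      rw [isZero_iff_val (K := K) (Vec.add_wf pos w1' (act_wf w2' _)), val_add w1' (act_wf w2' _)]
      have s1 := sends_comb Φ g (cast_smul_map g) hstep.wf hstep.wf' hstep.sends x.1
      have s2 := hImg _ _ w2 w2' (sends_comb Φ g (cast_smul_map g) hstep.wf hstep.wf' hstep.sends x.2)
      apply hΦ
      unfold Sends at s1 s2
      rw [map_add, ← s1, ← s2, ← smul_add, ← map_add, h, map_zero, smul_zero]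
    obtain ⟨m, hm, hmat⟩ := ih (narrow minus l.1 C ls) fuel _ _
      (by rw [narrow_eq]; simpa using hlen) (by omega)
      (fun l' hl' => by
        rw [narrow_eq] at hl'
        obtain ⟨l₀, hl₀, rfl⟩ := List.mem_map.1 hl'
        obtain ⟨hok', hcand'⟩ := hlv l₀ (List.mem_cons_of_mem _ hl₀)
        refine ⟨hok', fun D hD hDi => List.mem_filter.2 ⟨hcand' D hD hDi, ?_⟩⟩
        cases minus with
        | true => rfl
        | false =>
          obtain ⟨-, -, ha', hb', -, hj'⟩ := ok_iff hok'
          obtain ⟨c1, c2, c3, c4, c5⟩ := mem_all_plus hC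
          obtain ⟨d1, d2, d3, d4, d5⟩ := mem_all_plus hD
          simp only [Bool.false_or, beq_iff_eq]
          exact anti_eq hp2 hd hΦ hv hfix (by simpa using hoj) (by simpa using hj') c1 d1 c2 c3 d2 d3
            hoa hob ha' hb' c4 c5 d4 d5 hCi hDi)
      (step_next hstep hImg)
      (by rw [narrow_eq, List.map_map, List.map_map]; exact hdom.2)
    refine ⟨m, ?_, hmat⟩
    simp only [search, forcePairs_eq, Vec.forceList_eq, List.mem_flatMap]
    exact ⟨C, hcand C hC hCi, by rw [if_pos hpass]; exact hm⟩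

theorem sends_applyMat {g : G} {m : List Vec} (hm : Mat Φ p g m) {t : Vec} (ht : Vec.Wf p d t) :
    Vec.Wf p d (applyMat p d m t) ∧ Sends Φ g t (applyMat p d m t) := by
  have key : ∀ l : List ℕ, (∀ z ∈ l, z < 2 ^ d) →
      Vec.Wf p d (l.foldr (fun z acc => Vec.add p (Vec.smul p (Vec.get d t z) (m.getD z (Vec.zero d))) acc)
        (Vec.zero d)) ∧
      g • Φ ((l.map fun z => (Vec.get d t z : K) • val K d (Vec.unit d z)).sum) = Φ (val K d
        (l.foldr (fun z acc => Vec.add p (Vec.smul p (Vec.get d t z) (m.getD z (Vec.zero d))) acc)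
          (Vec.zero d))) := by
    intro l
    induction l with
    | nil => intro _; exact ⟨Vec.zero_wf pos d, by simp [val_zero]⟩
    | cons z l ih =>
      intro hl
      obtain ⟨hw, he⟩ := ih fun y hy => hl y (List.mem_cons_of_mem _ hy)
      have hz := hm.2.2 z (hl z List.mem_cons_self)
      unfold Sends at hz
      have hwz := getD_wf hm.1 z
      refine ⟨Vec.add_wf pos (Vec.smul_wf pos _ hwz) hw, ?_⟩
      simp only [List.map_cons, List.sum_cons, List.foldr_cons, val_add (Vec.smul_wf pos _ hwz) hw,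
        val_smul _ hwz, map_add, map_smul, smul_add, cast_smul_map, he, hz]
  obtain ⟨hw, he⟩ := key (List.range (2 ^ d)) fun z hz => List.mem_range.1 hz
  refine ⟨hw, ?_⟩
  have hsum : ((List.range (2 ^ d)).map fun z => (Vec.get d t z : K) • val K d (Vec.unit d z)).sum =
      val K d t := by
    rw [show ((List.range (2 ^ d)).map fun z => (Vec.get d t z : K) • val K d (Vec.unit d z)).sum =
      ∑ z ∈ Finset.range (2 ^ d), (Vec.get d t z : K) • val K d (Vec.unit d z) from rfl,
      Finset.sum_range]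
    funext y
    simp [val_unit, Finset.sum_apply, Pi.single_apply, val]
  rw [hsum] at he
  exact he

theorem mat_one : Mat Φ p (1 : G) (idMat d) := by
  refine ⟨fun v hv => ?_, by simp [idMat], fun z hz => ?_⟩
  · obtain ⟨z, -, rfl⟩ := List.mem_map.1 hv
    exact Vec.unit_wf (Fact.out : p.Prime).one_lt d z
  · unfold Sends
    rw [one_smul, idMat, List.getD_eq_getElem _ _ (by simpa using hz), List.getElem_map,
      List.getElem_range]

theorem mat_mul {g h : G} {m m' : List Vec} (hm : Mat Φ p g m) (hm' : Mat Φ p h m') :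
    Mat Φ p (g * h) (mulMat p d m m') := by
  refine ⟨fun v hv => ?_, by simpa [mulMat] using hm'.2.1, fun z hz => ?_⟩
  · obtain ⟨w, hw, rfl⟩ := List.mem_map.1 hv
    exact (sends_applyMat hm (hm'.1 w hw)).1
  · have hzl : z < m'.length := by rw [hm'.2.1]; exact hz
    unfold Sends
    rw [mul_smul, hm'.2.2 z hz, mulMat, List.getD_eq_getElem _ _ hzl,
      List.getD_eq_getElem (m'.map _) _ (by simpa using hzl), List.getElem_map]
    exact (sends_applyMat hm (hm'.1 _ (List.getElem_mem hzl))).2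

theorem mat_unique (hΦ : Function.Injective Φ) {g : G} {m m' : List Vec} (hm : Mat Φ p g m)
    (hm' : Mat Φ p g m') : m = m' := by
  refine List.ext_getElem (hm.2.1.trans hm'.2.1.symm) fun z h1 h2 => ?_
  have hz : z < 2 ^ d := hm.2.1 ▸ h1
  have e1 := hm.2.2 z hz
  have e2 := hm'.2.2 z hz
  unfold Sends at e1 e2
  rw [List.getD_eq_getElem _ _ h1] at e1
  rw [List.getD_eq_getElem _ _ h2] at e2
  exact val_inj (hm.1 _ (List.getElem_mem h1)) (hm'.1 _ (List.getElem_mem h2))
    (hΦ (e1.symm.trans e2))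

theorem mat_pow {g : G} {m : List Vec} (hm : Mat Φ p g m) :
    ∀ n : ℕ, Mat Φ p (g ^ n) (powMat p d m n)
  | 0 => by rw [pow_zero]; exact mat_one
  | n + 1 => by
      rw [pow_succ', powMat, Vec.forceList_eq]
      exact mat_mul hm (mat_pow hm n)

theorem fix_range_of_mat [Finite K] (hK : Nat.card K = p) {g : G} (hm : Mat Φ p g (idMat d))
    (x : Fin (2 ^ d) → K) : g • Φ x = Φ x := by
  classical
  rw [show x = ∑ z, x z • Pi.single z (1 : K) from by funext y; simp [Pi.single_apply],
    map_sum, Finset.smul_sum]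
  refine Finset.sum_congr rfl fun z _ => ?_
  obtain ⟨n, -, hn⟩ := exists_natCast hK (x z)
  have h := hm.2.2 z.1 z.2
  unfold Sends at h
  rw [idMat, List.getD_eq_getElem _ _ (by simp), List.getElem_map, List.getElem_range,
    val_unit d z.1 z.2] at h
  rw [map_smul, ← hn, cast_smul_map, h]

theorem mat_word {chosen : List (List Vec)} (h : ∀ m ∈ chosen, ∃ g : G, Mat Φ p g m) :
    ∀ w : List ℕ, ∃ g : G, Mat Φ p g (wordMat p d chosen w)
  | [] => ⟨1, mat_one⟩
  | i :: w => by
      obtain ⟨g', hg'⟩ := mat_word h w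
      obtain ⟨g, hg⟩ : ∃ g : G, Mat Φ p g (chosen.getD i (idMat d)) := by
        rw [List.getD_eq_getElem?_getD]
        rcases hi : chosen[i]? with _ | m
        · exact ⟨1, mat_one⟩
        · exact h m (List.mem_of_getElem? hi)
      exact ⟨g * g', mat_mul hg hg'⟩

variable (hΦ : Function.Injective Φ) (hcop : ∀ g : G, g ^ p = 1 → g = 1)
  (hfaith : ∀ g : G, Mat Φ p g (idMat d) → g = 1)
  {sets : List (List (List Vec))} (hsets : ∀ s ∈ sets, ∃ (g : G) (m : List Vec), m ∈ s ∧ Mat Φ p g m)

include hΦ hcop hfaith hsets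

mutual

theorem refute_false : ∀ (t : Tree) (chosen : List (List Vec)),
    (∀ m ∈ chosen, ∃ g : G, Mat Φ p g m) → refute p d sets chosen t = true → False
  | Tree.dead w, chosen, h, href => by
      simp only [refute, Vec.forceList_eq, Bool.and_eq_true, Bool.not_eq_true', Vec.beqList_iff]
        at href
      obtain ⟨g, hg⟩ := mat_word h w
      have h1 : g = 1 := hcop g (hfaith _ (href.2 ▸ mat_pow hg p))
      subst h1
      have := Vec.beqList_iff.2 (mat_unique hΦ hg mat_one)
      rw [href.1] at this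
      exact Bool.false_ne_true this
  | Tree.node i kids, chosen, h, href => by
      simp only [refute, Bool.and_eq_true, Nat.blt_eq] at href
      exact refuteKids_false kids (sets.getD i []) chosen h
        (by rw [List.getD_eq_getElem _ _ href.1]; exact hsets _ (List.getElem_mem href.1)) href.2

theorem refuteKids_false : ∀ (ks : Forest) (ms chosen : List (List Vec)),
    (∀ m ∈ chosen, ∃ g : G, Mat Φ p g m) → (∃ (g : G) (m : List Vec), m ∈ ms ∧ Mat Φ p g m) →
      refuteKids p d sets chosen ms ks = true → False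
  | Forest.nil, [], _, _, hms, _ => by obtain ⟨g, m, hm, -⟩ := hms; exact List.not_mem_nil hm
  | Forest.nil, _ :: _, _, _, _, href => by simp [refuteKids] at href
  | Forest.cons _ _, [], _, _, _, href => by simp [refuteKids] at href
  | Forest.cons k ks, m :: ms, chosen, h, hms, href => by
      simp only [refuteKids, Bool.and_eq_true] at href
      obtain ⟨g, m', hm', hg⟩ := hms
      rcases List.mem_cons.1 hm' with rfl | hm'
      · refine refute_false k _ (fun x hx => ?_) href.1
        rcases List.mem_append.1 hx with hx | hx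
        · exact h x hx
        · rw [List.mem_singleton.1 hx]; exact ⟨g, hg⟩
      · exact refuteKids_false ks ms chosen h ⟨g, m', hm', hg⟩ href.2

end

end Map

section Model

variable {G : Type u} [Group G] [Finite G] {V : Type u} [AddCommGroup V] [DistribMulAction G V]
  [Finite V] [Nontrivial V] [FaithfulSMul G V] [Finite K] [Module K V] {L : Layer G V K}

theorem eq_one_of_fix {s : G} (hs : s ∈ L.U) {x : V} (hx : x ≠ 0) (h : s • x = x) : s = 1 := by
  refine eq_of_smul_eq_smul (α := V) fun v => ?_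
  have hι : (L.ι ⟨s, hs⟩ : K) = 1 := smul_left_injective K hx (by
    show (L.ι ⟨s, hs⟩ : K) • x = (1 : K) • x
    rw [one_smul, ← L.smul_ι]; exact h)
  rw [one_smul, show s • v = (L.ι ⟨s, hs⟩ : K) • v from L.smul_ι ⟨s, hs⟩ v, hι, one_smul]

/-- An element fixing the coordinate space is trivial. -/
theorem eq_one_of_fix_range {S : Shape} (M : Model L S) {g : G}
    (hg : ∀ x, g • M.Φ x = M.Φ x) : g = 1 := by
  haveI := L.E_normal
  have hrange : ∀ e ∈ L.E, ∀ x, ∃ x', e • M.Φ x = M.Φ x' := fun e he x => by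
    obtain ⟨a, b, j, c, -, -, h⟩ := M.surjective e he
    exact ⟨c • pauli S.width a b (if h : 0 < S.width ∧ j = true then quat S.width h.1 x else x),
      by rw [map_smul]; exact h x⟩
  let x₀ : Fin (2 ^ S.width) → K := fun _ => 1
  have hx₀ : M.Φ x₀ ≠ 0 := fun h =>
    one_ne_zero (congrFun (M.injective (h.trans (map_zero M.Φ).symm)) ⟨0, Nat.two_pow_pos _⟩)
  have hg' : ∀ x, g⁻¹ • M.Φ x = M.Φ x := fun x => inv_smul_eq_iff.2 (hg x).symm
  have hcomm : ∀ e ∈ L.E, g * e = e * g := by
    intro e he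
    have hdE : g * e * g⁻¹ * e⁻¹ ∈ L.E :=
      L.E.mul_mem (L.E_normal.conj_mem e he g) (L.E.inv_mem he)
    have hdfix : ∀ x, (g * e * g⁻¹ * e⁻¹) • M.Φ x = M.Φ x := fun x => by
      obtain ⟨x', hx'⟩ := hrange e⁻¹ (L.E.inv_mem he) x
      rw [mul_smul, mul_smul, mul_smul, hx', hg', ← hx', smul_inv_smul, hg]
    have hdU : g * e * g⁻¹ * e⁻¹ ∈ L.U := L.center_le _ hdE fun f hf => by
      generalize g * e * g⁻¹ * e⁻¹ = d at hdE hdfix
      have hsU := L.commutator_mem d hdE f hf
      have hdi : ∀ x, d⁻¹ • M.Φ x = M.Φ x := fun x => inv_smul_eq_iff.2 (hdfix x).symm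
      have hs : (d * f * d⁻¹ * f⁻¹) • M.Φ x₀ = M.Φ x₀ := by
        obtain ⟨x', hx'⟩ := hrange f⁻¹ (L.E.inv_mem hf) x₀
        rw [mul_smul, mul_smul, mul_smul, hx', hdi, ← hx', smul_inv_smul, hdfix]
      have h1 := eq_one_of_fix hsU hx₀ hs
      calc d * f = d * f * d⁻¹ * f⁻¹ * (f * d) := by group
        _ = f * d := by rw [h1, one_mul]
    have h1 := eq_one_of_fix hdU hx₀ (hdfix x₀)
    calc g * e = g * e * g⁻¹ * e⁻¹ * (e * g) := by group
      _ = e * g := by rw [h1, one_mul]
  exact eq_one_of_fix (L.self_centralizing g hcomm) hx₀ (hg x₀)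

/-- Every map has an image of each allowed element. -/
theorem exists_imageF (hK : Nat.card K = p) {S : Shape} (hd : S.width < 5) (M : Model L S) (g : G)
    {e : El} (he : El.ok p S.width S.minus e = true) :
    ∃ C ∈ El.all p S.width S.minus, C.a < 2 ^ S.width ∧ ImageF M.Φ g e C := by
  haveI := L.E_normal
  obtain ⟨h0, h1, ha, hb, hm, hj⟩ := ok_iff he
  have hc : (e.c : K) ≠ 0 := natCast_ne_zero h0 h1
  -- an element acting as a multiple of `e`
  obtain ⟨f, hf, k, hk, hfop⟩ : ∃ f ∈ L.E, ∃ k : K, k ≠ 0 ∧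
      ∀ x, f • M.Φ x = k • M.Φ (opFun K S.width e x) := by
    obtain ⟨e1, he1, c1, hc1, hp1⟩ := M.pauli_mem ⟨e.a, ha⟩ ⟨e.b, hb⟩ hm
    by_cases hjd : 0 < S.width ∧ e.j = true
    · obtain ⟨e2, he2, c2, hc2, hp2⟩ := M.quat_mem (hj hjd.2) hjd.1
      refine ⟨e1 * e2, L.E.mul_mem he1 he2, c2 * c1 * (e.c : K)⁻¹,
        mul_ne_zero (mul_ne_zero hc2 hc1) (inv_ne_zero hc), fun x => ?_⟩
      rw [mul_smul, hp2, L.linear e1 he1, hp1, opFun_eq hd ha hb, dif_pos hjd, map_smul, smul_smul,
        smul_smul, mul_assoc _ (e.c : K)⁻¹, inv_mul_cancel₀ hc, mul_one]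
    · refine ⟨e1, he1, c1 * (e.c : K)⁻¹, mul_ne_zero hc1 (inv_ne_zero hc), fun x => ?_⟩
      rw [hp1, opFun_eq hd ha hb, dif_neg hjd, map_smul, smul_smul, mul_assoc _ (e.c : K)⁻¹,
        inv_mul_cancel₀ hc, mul_one]
  obtain ⟨n, -, hn⟩ := exists_natCast hK k
  have hconj : g * f * g⁻¹ ∈ L.E := L.E_normal.conj_mem f hf g
  obtain ⟨a, b, j, c, hab, hjm, hop⟩ := M.surjective _ hconj
  obtain ⟨m, hm1, hmc⟩ := exists_natCast hK (k⁻¹ * c)
  have hc0 : c ≠ 0 := by
    intro h
    have h2 := hop fun _ => 1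
    rw [h, zero_smul, smul_eq_zero_iff_eq, ← map_zero M.Φ] at h2
    exact one_ne_zero (congrFun (M.injective h2) ⟨0, Nat.two_pow_pos _⟩)
  have hm0 : 0 < m := Nat.pos_of_ne_zero fun h => mul_ne_zero (inv_ne_zero hk) hc0
    (by rw [← hmc, h, Nat.cast_zero])
  refine ⟨⟨m, a, b, j⟩, mem_all hm0 hm1 a.2 b.2 hab hjm, a.2, fun x y hxy => ?_⟩
  have h2 : (g * f * g⁻¹) • M.Φ y = k • g • M.Φ (opFun K S.width e x) := by
    rw [← hxy, mul_smul, mul_smul, inv_smul_smul, hfop, ← hn, cast_smul_map]
  rw [hop y] at h2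
  rw [opFun_eq (e := ⟨m, a, b, j⟩) hd a.2 b.2, map_smul, hmc, ← smul_smul, h2, smul_smul, inv_mul_cancel₀ hk, one_smul]

/-- A model with refuted certificates has a regular pair. -/
theorem reg1_of_certs (hK : Nat.card K = p) (hp2 : p ≠ 2) (hG : ¬ p ∣ Nat.card G) {d : ℕ}
    {minus : Bool} (hd0 : 0 < d) (hd : d < 5) (M : Model L ⟨d, minus⟩)
    (certs : List (PairCert × List (List Vec))) (tree : Tree)
    (hgood : ∀ x ∈ certs, goodPair p d minus x.1 x.2 = true)
    (href : refute p d (certs.map Prod.snd) [] tree = true) : Reg1 G V := by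
  by_contra hno
  unfold Reg1 at hno
  push Not at hno
  have hfaith : ∀ g : G, Mat M.Φ p g (idMat d) → g = 1 := fun g hg =>
    eq_one_of_fix_range M (fix_range_of_mat hK hg)
  have hcop : ∀ g : G, g ^ p = 1 → g = 1 := fun g hg => by
    rcases (Fact.out : p.Prime).eq_one_or_self_of_dvd _ (orderOf_dvd_of_pow_eq_one hg) with h | h
    · exact orderOf_eq_one_iff.1 h
    · exact absurd (h ▸ orderOf_dvd_natCard g) hG
  refine refute_false M.injective hcop hfaith ?_ tree [] (fun m hm => absurd hm List.not_mem_nil) href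
  intro s hs
  obtain ⟨⟨C, stab⟩, hx, rfl⟩ := List.mem_map.1 hs
  have h := hgood _ hx
  simp only [goodPair, Bool.and_eq_true, beqMats_iff, List.all_eq_true, Bool.not_eq_true'] at h
  obtain ⟨⟨⟨⟨⟨⟨hgens, hv⟩, hw⟩, hv0⟩, hdom⟩, -⟩, hstab⟩ := h
  have hv' := Vec.wf_iff hv
  have hw' := Vec.wf_iff hw
  have hvne : val K d C.v ≠ 0 := fun h0 => by
    rw [(isZero_iff_val hv').2 h0] at hv0
    exact Bool.noConfusion hv0
  have hnr := hno (M.Φ (val K d C.v)) (M.Φ (val K d C.w))
  unfold RegVec at hnr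
  push Not at hnr
  obtain ⟨g, hgv, hgw, x, hgx⟩ := hnr
  obtain ⟨hl1, hl2, hl3⟩ := levels_spec (p := p) minus (El.all p d minus) (domain_length hdom)
  obtain ⟨m, hm, hmat⟩ := search_mem hp2 hd0 hd minus C.span M.injective hvne hgv
    (fun e he => exists_imageF (S := ⟨d, minus⟩) hK hd M g he) _
    (levels p minus (El.all p d minus) C.gens C.rels) C.gens.length [C.v, C.w] [C.v, C.w] rfl
    (by rw [← List.length_map (fun l => l.1), hl1])
    (fun l hl => by
      have hlg : l.1 ∈ C.gens := hl1 ▸ List.mem_map.2 ⟨l, hl, rfl⟩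
      refine ⟨hgens _ hlg, fun D hD hDi => ?_⟩
      rw [hl3 l hl]
      refine List.mem_filter.2 ⟨hD, ?_⟩
      cases minus with
      | true => rfl
      | false =>
        obtain ⟨-, -, ha, hb, -, hj⟩ := ok_iff (hgens _ hlg)
        obtain ⟨c1, -, -, c4, c5⟩ := mem_all_plus hD
        simp only [Bool.false_or, beq_iff_eq]
        exact square_eq hd M.injective hvne hgv (by simpa using hj) c1 ha hb c4 c5 hDi)
    ⟨rfl, fun v hv => by
        rcases List.mem_cons.1 hv with rfl | hv
        · exact hv'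
        · rw [List.mem_singleton.1 hv]; exact hw',
      fun v hv => by
        rcases List.mem_cons.1 hv with rfl | hv
        · exact hv'
        · rw [List.mem_singleton.1 hv]; exact hw',
      fun i => by
        rcases i with _ | _ | i
        · exact hgv
        · exact hgw
        · simp [Sends, val_zero]⟩
    (by rw [hl1, hl2]; exact hdom)
  refine ⟨g, m, hstab ▸ List.mem_filter.2 ⟨hm, ?_⟩, hmat⟩
  by_contra hid
  simp only [Bool.not_eq_true', Bool.not_eq_false, Vec.beqList_iff] at hid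
  subst hid
  exact hgx (by rw [hfaith g hmat, one_smul])

end Model

end Cfsg.Agent.H94.BaseTwo
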