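import Cfsg.Agent.H94.BaseTwo.CertDefs
import Cfsg.Agent.H86.BaseTwo.Spec

/-!
The operations of the certificate checker as operations on coordinate functions.
-/

set_option autoImplicit false
set_option linter.unusedSectionVars false

namespace Cfsg.Agent.H94.BaseTwo

open Cfsg.Agent.H86.BaseTwo (pairing)

universe u

namespace Vec

/-- Trees of depth `d` with entries below `p`. -/
inductive Wf (p : ℕ) : ℕ → Vec → Prop
  | leaf {x : ℕ} (h : x < p) : Wf p 0 (Vec.leaf x)
  | node {d : ℕ} {l r : Vec} (hl : Wf p d l) (hr : Wf p d r) : Wf p (d + 1) (Vec.node l r)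

variable {p : ℕ}

theorem wf_iff : ∀ {d : ℕ} {t : Vec}, wf p d t = true → Wf p d t := by
  intro d
  induction d with
  | zero =>
    rintro (x | ⟨l, r⟩) h
    · exact .leaf (Nat.blt_eq.mp (by simpa [wf] using h))
    · simp [wf] at h
  | succ d ih =>
    rintro (x | ⟨l, r⟩) h
    · simp [wf] at h
    · simp only [wf, Bool.and_eq_true] at h
      exact .node (ih h.1) (ih h.2)

theorem get_lt {d : ℕ} {t : Vec} (h : Wf p d t) (z : ℕ) : get d t z < p := by
  induction h with
  | leaf h => simpa [get] using h
  | node hl hr ihl ihr => simp only [get]; split_ifs <;> assumption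

theorem beq_iff : ∀ {s t : Vec}, beq s t = true ↔ s = t := by
  intro s
  induction s with
  | leaf x => rintro (y | ⟨l, r⟩) <;> simp [beq]
  | node a b iha ihb => rintro (y | ⟨l, r⟩) <;> simp [beq, iha, ihb]

theorem beqList_iff : ∀ {s t : List Vec}, beqList s t = true ↔ s = t := by
  intro s
  induction s with
  | nil => rintro (_ | ⟨y, t⟩) <;> simp [beqList]
  | cons x s ih => rintro (_ | ⟨y, t⟩) <;> simp [beqList, ih, beq_iff]

@[simp] theorem force_eq {α : Type} : ∀ (t : Vec) (k : Vec → α), force t k = k t := by
  intro t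
  induction t with
  | leaf x => intro k; cases x <;> simp [force]
  | node l r ihl ihr => intro k; simp [force, ihl, ihr]

@[simp] theorem forceList_eq {α : Type} : ∀ (t : List Vec) (k : List Vec → α), forceList t k = k t := by
  intro t
  induction t with
  | nil => intro k; simp [forceList]
  | cons x t ih => intro k; simp [forceList, ih]

theorem zero_wf (hp : 0 < p) : ∀ d, Wf p d (zero d)
  | 0 => .leaf hp
  | d + 1 => .node (zero_wf hp d) (zero_wf hp d)

theorem get_zero : ∀ d z, get d (zero d) z = 0
  | 0, _ => rfl
  | d + 1, z => by simp [zero, get, get_zero d z]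

theorem unit_wf (hp : 1 < p) : ∀ d z, Wf p d (unit d z)
  | 0, _ => .leaf hp
  | d + 1, z => by
      have h0 := zero_wf (p := p) (by omega) d
      simp only [unit]
      split_ifs
      · exact .node h0 (unit_wf hp d z)
      · exact .node (unit_wf hp d z) h0

theorem get_unit : ∀ d z y, get d (unit d z) y =
    if ∀ i, i < d → z.testBit i = y.testBit i then 1 else 0
  | 0, _, _ => by simp [unit, get]
  | d + 1, z, y => by
      have key : (∀ i, i < d + 1 → z.testBit i = y.testBit i) ↔
          (z.testBit d = y.testBit d ∧ ∀ i, i < d → z.testBit i = y.testBit i) :=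
        ⟨fun h => ⟨h d (by omega), fun i hi => h i (by omega)⟩, fun h i hi => by
          rcases Nat.lt_succ_iff_lt_or_eq.1 hi with hi | rfl
          · exact h.2 i hi
          · exact h.1⟩
      simp only [unit, key]
      rcases hz : z.testBit d <;> rcases hy : y.testBit d <;>
        simp [get, hy, get_zero, get_unit d z y]

theorem add_wf (hp : 0 < p) {d : ℕ} {s t : Vec} (hs : Wf p d s) :
    Wf p d t → Wf p d (add p s t) := by
  induction hs generalizing t with
  | leaf h => intro ht; cases ht; exact .leaf (Nat.mod_lt _ hp)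
  | node hl hr ihl ihr => intro ht; cases ht with | node hl' hr' => exact .node (ihl hl') (ihr hr')

theorem get_add {d : ℕ} {s t : Vec} (hs : Wf p d s) (z : ℕ) :
    Wf p d t → get d (add p s t) z = (get d s z + get d t z) % p := by
  induction hs generalizing t with
  | leaf h => intro ht; cases ht; simp [add, get]
  | node hl hr ihl ihr =>
    intro ht; cases ht with
    | node hl' hr' => simp only [add, get]; split_ifs; exacts [ihr hr', ihl hl']

theorem smul_wf (hp : 0 < p) (c : ℕ) {d : ℕ} {s : Vec} (hs : Wf p d s) : Wf p d (smul p c s) := by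
  induction hs with
  | leaf h => exact .leaf (Nat.mod_lt _ hp)
  | node hl hr ihl ihr => exact .node ihl ihr

theorem get_smul (c : ℕ) {d : ℕ} {s : Vec} (hs : Wf p d s) (z : ℕ) :
    get d (smul p c s) z = c * get d s z % p := by
  induction hs with
  | leaf h => simp [smul, get]
  | node hl hr ihl ihr => simp only [smul, get]; split_ifs <;> assumption

theorem isZero_iff {d : ℕ} {s : Vec} (hs : Wf p d s) :
    isZero s = true ↔ ∀ z, z < 2 ^ d → get d s z = 0 := by
  induction hs with
  | leaf h => simp [isZero, get]
  | @node d l r hl hr ihl ihr =>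
    simp only [isZero, Bool.and_eq_true, ihl, ihr, get]
    constructor
    · rintro ⟨h1, h2⟩ z hz
      have hlow : z % 2 ^ d < 2 ^ d := Nat.mod_lt _ (Nat.two_pow_pos d)
      have hget : ∀ (t : Vec) (k : ℕ), k ≤ d → get k t z = get k t (z % 2 ^ d) := by
        intro t k hk
        induction k generalizing t with
        | zero => cases t <;> rfl
        | succ k ih =>
          cases t with
          | leaf x => rfl
          | node a b =>
            simp only [get, Nat.testBit_mod_two_pow, show k < d by omega, decide_true, Bool.true_and,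
              ih _ (by omega : k ≤ d)]
      split_ifs
      · rw [hget r d le_rfl]; exact h2 _ hlow
      · rw [hget l d le_rfl]; exact h1 _ hlow
    · intro h
      refine ⟨fun z hz => ?_, fun z hz => ?_⟩
      · simpa [Nat.testBit_lt_two_pow hz] using h z (by rw [pow_succ]; omega)
      · have h2 : (2 ^ d + z).testBit d = true := by
          rw [Nat.testBit_two_pow_add_eq, Nat.testBit_lt_two_pow hz]; rfl
        have := h (2 ^ d + z) (by rw [pow_succ]; omega)
        simp only [h2, if_true] at this
        have hlowget : ∀ (t : Vec) (k : ℕ), k ≤ d → get k t (2 ^ d + z) = get k t z := by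
          intro t k hk
          induction k generalizing t with
          | zero => cases t <;> rfl
          | succ k ih =>
            cases t with
            | leaf x => rfl
            | node a b =>
              simp only [get, Nat.testBit_two_pow_add_gt (show k < d by omega),
                ih _ (by omega : k ≤ d)]
        rwa [hlowget r d le_rfl] at this

theorem ext {d : ℕ} {s t : Vec} (hs : Wf p d s) (ht : Wf p d t)
    (h : ∀ z, z < 2 ^ d → get d s z = get d t z) : s = t := by
  induction hs generalizing t with
  | leaf hx => cases ht; simpa [get] using h 0 (by simp)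
  | @node d l r hl hr ihl ihr =>
    cases ht with
    | @node _ l' r' hl' hr' =>
      have hlowget : ∀ (t : Vec) (k z : ℕ), k ≤ d → z < 2 ^ d → get k t (2 ^ d + z) = get k t z := by
        intro t k z hk hz
        induction k generalizing t with
        | zero => cases t <;> rfl
        | succ k ih =>
          cases t with
          | leaf x => rfl
          | node a b =>
            simp only [get, Nat.testBit_two_pow_add_gt (show k < d by omega),
              ih _ (by omega : k ≤ d)]
      have hL : l = l' := ihl hl' fun z hz => by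
        simpa [get, Nat.testBit_lt_two_pow hz] using h z (by rw [pow_succ]; omega)
      have hR : r = r' := ihr hr' fun z hz => by
        have h2 : (2 ^ d + z).testBit d = true := by
          rw [Nat.testBit_two_pow_add_eq, Nat.testBit_lt_two_pow hz]; rfl
        have := h (2 ^ d + z) (by rw [pow_succ]; omega)
        simp only [get, h2, if_true, hlowget _ d z le_rfl hz] at this
        exact this
      rw [hL, hR]

end Vec

/-- The sign of a monomial operator at a coordinate. -/
def sg : ℕ → ℕ → ℕ → Bool
  | 0, _, _ => false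
  | d + 1, b, y => (b.testBit d && y.testBit d) != sg d b y

theorem sg_xor : ∀ d b x y, sg d b (x ^^^ y) = (sg d b x != sg d b y)
  | 0, _, _, _ => rfl
  | d + 1, b, x, y => by
      simp only [sg, Nat.testBit_xor, sg_xor d b x y]
      cases b.testBit d <;> cases x.testBit d <;> cases y.testBit d <;>
        cases sg d b x <;> cases sg d b y <;> rfl

theorem sg_pairing : ∀ d < 5, ∀ b < 2 ^ d, ∀ y < 2 ^ d,
    (decide (pairing b y = 1)) = sg d b y := by
  decide +kernel

theorem pairing_lt_two (b y : ℕ) : pairing b y < 2 := Nat.mod_lt _ (by norm_num)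

theorem sg_par : ∀ d < 5, ∀ b < 2 ^ d, ∀ y < 2 ^ d,
    par (y &&& b) = sg d b y ∧ par (b &&& y) = sg d b y := by
  decide +kernel

variable {p : ℕ}

theorem pauli_wf (hp : 0 < p) (a b : ℕ) {d : ℕ} {t : Vec} (h : Vec.Wf p d t) :
    Vec.Wf p d (Vec.pauli p a b d t) := by
  induction h with
  | leaf h => simpa [Vec.pauli] using Vec.Wf.leaf h
  | node hl hr ihl ihr =>
    simp only [Vec.pauli]
    split_ifs
    exacts [.node (Vec.smul_wf hp _ ihr) ihl, .node ihr ihl, .node ihl (Vec.smul_wf hp _ ihr),
      .node ihl ihr]

theorem quat_wf (hp : 0 < p) : ∀ {d : ℕ} {t : Vec}, Vec.Wf p d t → Vec.Wf p d (Vec.quat p d t)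
  | 0, _, .leaf h => by simpa [Vec.quat] using Vec.Wf.leaf h
  | 1, _, .node hl hr => .node (Vec.add_wf hp hr hl) (Vec.add_wf hp hl (Vec.smul_wf hp _ hr))
  | _ + 2, _, .node hl hr => .node (quat_wf hp hl) (quat_wf hp hr)

section Field

variable {K : Type u} [Field K] [CharP K p]

/-- A sign. -/
def sign (K : Type u) [Field K] (b : Bool) : K := if b then -1 else 1

theorem sign_bne (b c : Bool) : sign K (b != c) = sign K b * sign K c := by
  cases b <;> cases c <;> simp [sign]

theorem cast_mod (x : ℕ) : ((x % p : ℕ) : K) = x := by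
  conv_rhs => rw [← Nat.mod_add_div x p]
  simp [CharP.cast_eq_zero]

/-- The coordinate function of a vector. -/
def val (K : Type u) [Field K] (d : ℕ) (t : Vec) : Fin (2 ^ d) → K := fun z => (Vec.get d t z : K)

theorem get_pauli (hp : 0 < p) (a b : ℕ) {d : ℕ} {t : Vec} (h : Vec.Wf p d t) (z : ℕ) :
    (Vec.get d (Vec.pauli p a b d t) z : K) =
      sign K (sg d b (z ^^^ a)) * Vec.get d t (z ^^^ a) := by
  induction h with
  | leaf h => simp [Vec.pauli, Vec.get, sg, sign]
  | @node d l r hl hr ihl ihr =>
    have hm : ((p - 1 : ℕ) : K) = -1 := by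
      rw [Nat.cast_sub (by omega), CharP.cast_eq_zero, Nat.cast_one, zero_sub]
    have hn := Vec.get_smul (p := p) (p - 1) (pauli_wf hp a b hr) z
    simp only [Vec.pauli, sg, Nat.testBit_xor]
    rcases hz : z.testBit d <;> rcases ha : a.testBit d <;> rcases hb : b.testBit d <;>
      (simp [Vec.get, hz, ha, hn, cast_mod, hm, ihl, ihr, sign_bne, sign] <;> cases sg d b (z ^^^ a) <;> simp)

theorem get_quat (hp : 0 < p) : ∀ {d : ℕ} {t : Vec}, Vec.Wf p d t → 0 < d → ∀ z : ℕ,
    (Vec.get d (Vec.quat p d t) z : K) =
      Vec.get d t (z ^^^ 1) + (-1 : K) ^ (z % 2) * Vec.get d t z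
  | 0, _, _, h, _ => absurd h (lt_irrefl 0)
  | 1, _, .node (l := l) (r := r) hl hr, _, z => by
      have hm : ((p - 1 : ℕ) : K) = -1 := by
        rw [Nat.cast_sub (by omega), CharP.cast_eq_zero, Nat.cast_one, zero_sub]
      cases hl with | leaf hx => cases hr with | leaf hy =>
      have h2 : z % 2 = 0 ∨ z % 2 = 1 := by omega
      rcases h2 with h2 | h2
      · have h0 : z.testBit 0 = false := by simp [Nat.testBit_zero, h2]
        have h1 : (z ^^^ 1).testBit 0 = true := by rw [Nat.testBit_xor, h0]; rfl
        simp only [Vec.quat, Vec.get, Vec.add, h0, h1, h2, cast_mod, Bool.false_eq_true, if_false,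
          if_true, pow_zero, one_mul, Nat.cast_add]
      · have h0 : z.testBit 0 = true := by simp [Nat.testBit_zero, h2]
        have h1 : (z ^^^ 1).testBit 0 = false := by rw [Nat.testBit_xor, h0]; rfl
        simp only [Vec.quat, Vec.get, Vec.add, Vec.smul, h0, h1, h2, cast_mod, Bool.false_eq_true,
          if_false, if_true, pow_one, Nat.cast_add, Nat.cast_mul, hm]
  | d + 2, _, .node hl hr, _, z => by
      have h1 : Nat.testBit 1 (d + 1) = false := Nat.testBit_lt_two_pow (Nat.one_lt_two_pow (by omega))
      simp only [Vec.quat, Vec.get, Nat.testBit_xor, h1, Bool.bne_false]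
      split_ifs
      exacts [get_quat hp hr (by omega) z, get_quat hp hl (by omega) z]

theorem val_add {d : ℕ} {s t : Vec} (hs : Vec.Wf p d s) (ht : Vec.Wf p d t) :
    val K d (Vec.add p s t) = val K d s + val K d t := by
  funext z; simp [val, Vec.get_add hs _ ht, cast_mod]

theorem val_smul (c : ℕ) {d : ℕ} {s : Vec} (hs : Vec.Wf p d s) :
    val K d (Vec.smul p c s) = (c : K) • val K d s := by
  funext z; simp [val, Vec.get_smul c hs, cast_mod]

theorem val_zero (d : ℕ) : val K d (Vec.zero d) = 0 := by
  funext z; simp [val, Vec.get_zero]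

theorem val_unit (d z : ℕ) (hz : z < 2 ^ d) :
    val K d (Vec.unit d z) = Pi.single ⟨z, hz⟩ 1 := by
  funext y
  rcases eq_or_ne y ⟨z, hz⟩ with rfl | hy
  · simp [val, Vec.get_unit]
  · rw [Pi.single_eq_of_ne hy]
    simp only [val, Vec.get_unit]
    rw [if_neg, Nat.cast_zero]
    intro h
    refine hy (Fin.ext (Nat.eq_of_testBit_eq fun i => ?_))
    by_cases hi : i < d
    · exact (h i hi).symm
    · have hle : 2 ^ d ≤ 2 ^ i := Nat.pow_le_pow_right (by norm_num) (by omega)
      rw [Nat.testBit_lt_two_pow (lt_of_lt_of_le y.2 hle),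
        Nat.testBit_lt_two_pow (lt_of_lt_of_le hz hle)]

theorem val_inj {d : ℕ} {s t : Vec} (hs : Vec.Wf p d s) (ht : Vec.Wf p d t)
    (h : val K d s = val K d t) : s = t :=
  Vec.ext hs ht fun z hz => CharP.natCast_injOn_Iio K p (Vec.get_lt hs z) (Vec.get_lt ht z)
    (congrFun h ⟨z, hz⟩)

theorem isZero_iff_val {d : ℕ} {s : Vec} (hs : Vec.Wf p d s) :
    Vec.isZero s = true ↔ val K d s = 0 := by
  rw [Vec.isZero_iff hs]
  constructor
  · intro h; funext z; simp [val, h z z.2]
  · intro h z hz
    have hp : 0 < p := lt_of_le_of_lt (Nat.zero_le _) (Vec.get_lt hs z)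
    exact CharP.natCast_injOn_Iio K p (Vec.get_lt hs z) hp (by simpa [val] using congrFun h ⟨z, hz⟩)

end Field

end Cfsg.Agent.H94.BaseTwo
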