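import Cfsg.Agent.H94.BaseTwo.CertOps
import Cfsg.Agent.H86.BaseThree.Pairing

/-!
The certificates are sound: a model with a certificate has a regular pair.
-/

set_option autoImplicit false
set_option linter.unusedSectionVars false
set_option linter.style.haveILetI false

namespace Cfsg.Agent.H94.BaseTwo

open Cfsg.Agent.H86.BaseThree Cfsg.Agent.H86.BaseTwo Cfsg.Agent.H52.RegPair

universe u

variable {p : ℕ} [Fact p.Prime] {K : Type u} [Field K] [CharP K p]

theorem pos : 0 < p := (Fact.out : p.Prime).pos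

/-- The coordinate map of an element. -/
def opFun (K : Type u) [Field K] (d : ℕ) (e : El) (v : Fin (2 ^ d) → K) : Fin (2 ^ d) → K :=
  fun z => (e.c : K) * (sign K (sg d e.b (z.1 ^^^ e.a)) *
    (if h : z.1 ^^^ e.a < 2 ^ d then
      (if hj : 0 < d ∧ e.j = true then quat d hj.1 v else v) ⟨z.1 ^^^ e.a, h⟩ else 0))

theorem act_wf {d : ℕ} {t : Vec} (ht : Vec.Wf p d t) (e : El) : Vec.Wf p d (e.act p d t) := by
  unfold El.act
  refine Vec.smul_wf pos _ (pauli_wf pos _ _ ?_)
  split_ifs
  · exact quat_wf pos ht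
  · exact ht

theorem val_act {d : ℕ} (hd : 0 < d) {t : Vec} (ht : Vec.Wf p d t) {e : El} (ha : e.a < 2 ^ d) :
    val K d (e.act p d t) = opFun K d e (val K d t) := by
  have hq : Vec.Wf p d (if e.j then Vec.quat p d t else t) := by
    split_ifs
    · exact quat_wf pos ht
    · exact ht
  funext z
  have hlt : z.1 ^^^ e.a < 2 ^ d := Nat.xor_lt_two_pow z.2 ha
  unfold El.act
  rw [val_smul _ (pauli_wf pos _ _ hq)]
  simp only [Pi.smul_apply, smul_eq_mul, opFun, val, get_pauli pos _ _ hq, dif_pos hlt]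
  congr 2
  by_cases hj : e.j = true
  · rw [if_pos hj, dif_pos ⟨hd, hj⟩, get_quat pos ht hd]
    rfl
  · rw [if_neg hj, dif_neg fun h => hj h.2]
    rfl

theorem opFun_eq {d : ℕ} (hd : d < 5) {e : El} (ha : e.a < 2 ^ d) (hb : e.b < 2 ^ d)
    (v : Fin (2 ^ d) → K) :
    opFun K d e v = (e.c : K) • pauli d ⟨e.a, ha⟩ ⟨e.b, hb⟩
      (if h : 0 < d ∧ e.j = true then quat d h.1 v else v) := by
  funext z
  have hlt : z.1 ^^^ e.a < 2 ^ d := Nat.xor_lt_two_pow z.2 ha
  simp only [opFun, Pi.smul_apply, smul_eq_mul, pauli, dif_pos hlt]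
  congr 2
  have h := sg_pairing d hd e.b hb (z.1 ^^^ e.a) hlt
  have h2 := pairing_lt_two e.b (z.1 ^^^ e.a)
  rcases hp : sg d e.b (z.1 ^^^ e.a) <;> rw [hp] at h <;> simp only [decide_eq_false_iff_not, decide_eq_true_eq] at h
  · rw [show pairing e.b (z.1 ^^^ e.a) = 0 by omega]; simp [sign]
  · rw [h]; simp [sign]

theorem comb_wf {d : ℕ} {ims : List Vec} (h : ∀ v ∈ ims, Vec.Wf p d v) :
    ∀ ts : Terms, Vec.Wf p d (comb p d ims ts)
  | [] => Vec.zero_wf pos d
  | (c, i) :: ts => by
      refine Vec.add_wf pos (Vec.smul_wf pos c ?_) (comb_wf h ts)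
      rw [List.getD_eq_getElem?_getD]
      rcases hi : ims[i]? with _ | v
      · exact Vec.zero_wf pos d
      · exact h v (List.mem_of_getElem? hi)

section Maps

variable {G : Type u} [Group G] [Finite G] {V : Type u} [AddCommGroup V] [DistribMulAction G V]
  [Module K V]
  {d : ℕ} (Φ : (Fin (2 ^ d) → K) →ₗ[K] V) (g : G)

/-- The map carries the first vector to the second. -/
def Sends (t t' : Vec) : Prop := g • Φ (val K d t) = Φ (val K d t')

theorem sends_comb (hlin : ∀ (n : ℕ) (y : V), g • ((n : K) • y) = (n : K) • g • y)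
    {ims ims' : List Vec} (h1 : ∀ v ∈ ims, Vec.Wf p d v) (h2 : ∀ v ∈ ims', Vec.Wf p d v)
    (h : ∀ i, Sends Φ g (ims.getD i (Vec.zero d)) (ims'.getD i (Vec.zero d))) :
    ∀ ts : Terms, Sends Φ g (comb p d ims ts) (comb p d ims' ts)
  | [] => by simp [Sends, comb, val_zero]
  | (c, i) :: ts => by
      have hi1 : Vec.Wf p d (ims.getD i (Vec.zero d)) := by
        rw [List.getD_eq_getElem?_getD]
        rcases hi : ims[i]? with _ | v
        · exact Vec.zero_wf pos d
        · exact h1 v (List.mem_of_getElem? hi)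
      have hi2 : Vec.Wf p d (ims'.getD i (Vec.zero d)) := by
        rw [List.getD_eq_getElem?_getD]
        rcases hi : ims'[i]? with _ | v
        · exact Vec.zero_wf pos d
        · exact h2 v (List.mem_of_getElem? hi)
      have hh := h i
      have ht := sends_comb hlin h1 h2 h ts
      simp only [Sends, comb, val_add (Vec.smul_wf pos c hi1) (comb_wf h1 ts),
        val_add (Vec.smul_wf pos c hi2) (comb_wf h2 ts), val_smul c hi1, val_smul c hi2,
        map_add, map_smul, smul_add, hlin] at hh ht ⊢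
      rw [hh, ht]

/-- `C` is the image of `e` under the map. -/
def Image (e C : El) : Prop :=
  ∀ t t', Vec.Wf p d t → Vec.Wf p d t' → Sends Φ g t t' → Sends Φ g (e.act p d t) (C.act p d t')

end Maps

section Algebra

variable {d : ℕ}

theorem opFun_smul (e : El) (k : K) (v : Fin (2 ^ d) → K) :
    opFun K d e (k • v) = k • opFun K d e v := by
  funext z
  simp only [opFun, Pi.smul_apply, smul_eq_mul]
  split_ifs <;> (try simp only [quat, Pi.smul_apply, smul_eq_mul]) <;> ring

theorem opFun_mono {e : El} (hj : e.j = false) (ha : e.a < 2 ^ d) (v : Fin (2 ^ d) → K) (z : Fin (2 ^ d)) :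
    opFun K d e v z = (e.c : K) * (sign K (sg d e.b (z.1 ^^^ e.a)) *
      v ⟨z.1 ^^^ e.a, Nat.xor_lt_two_pow z.2 ha⟩) := by
  simp [opFun, hj, Nat.xor_lt_two_pow z.2 ha]

theorem opFun_square (hd : d < 5) {e : El} (hj : e.j = false) (ha : e.a < 2 ^ d) (hb : e.b < 2 ^ d)
    (v : Fin (2 ^ d) → K) :
    opFun K d e (opFun K d e v) = (e.square p : K) • v := by
  funext z
  rw [opFun_mono hj ha, opFun_mono hj ha, Pi.smul_apply, smul_eq_mul]
  have hz : ((z.1 ^^^ e.a) ^^^ e.a) = z.1 := by rw [Nat.xor_assoc, Nat.xor_self, Nat.xor_zero]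
  simp only [hz, Fin.eta]
  have hs : sign K (sg d e.b (z.1 ^^^ e.a)) * sign K (sg d e.b z) = sign K (sg d e.b e.a) := by
    rw [sg_xor]
    rcases sg d e.b z.1 <;> rcases sg d e.b e.a <;> simp [sign]
  rw [show (e.c : K) * (sign K (sg d e.b (z.1 ^^^ e.a)) * ((e.c : K) * (sign K (sg d e.b z) * v z)))
    = (e.c : K) * e.c * (sign K (sg d e.b (z.1 ^^^ e.a)) * sign K (sg d e.b z)) * v z by ring, hs]
  congr 1
  unfold El.square
  rw [(sg_par d hd e.b hb e.a ha).1]
  rcases sg d e.b e.a
  · simp [sign, cast_mod]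
  · have hlt : e.c * e.c % p < p := Nat.mod_lt _ pos
    simp only [sign, if_true, cast_mod, Nat.cast_sub hlt.le, CharP.cast_eq_zero, Nat.cast_mul]
    ring

theorem opFun_anti (hd : d < 5) {e f : El} (he : e.j = false) (hf : f.j = false) (ha : e.a < 2 ^ d)
    (hb : e.b < 2 ^ d) (ha' : f.a < 2 ^ d) (hb' : f.b < 2 ^ d) (v : Fin (2 ^ d) → K) :
    opFun K d e (opFun K d f v) = sign K (e.anti f) • opFun K d f (opFun K d e v) := by
  funext z
  rw [opFun_mono he ha, opFun_mono hf ha', Pi.smul_apply, smul_eq_mul, opFun_mono hf ha',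
    opFun_mono he ha]
  have hz : ((z.1 ^^^ e.a) ^^^ f.a) = ((z.1 ^^^ f.a) ^^^ e.a) := Nat.xor_right_comm _ _ _
  simp only [hz]
  have hs : sign K (sg d e.b (z.1 ^^^ e.a)) * sign K (sg d f.b ((z.1 ^^^ f.a) ^^^ e.a)) =
      sign K (e.anti f) * (sign K (sg d f.b (z.1 ^^^ f.a)) * sign K (sg d e.b ((z.1 ^^^ f.a) ^^^ e.a))) := by
    unfold El.anti
    rw [(sg_par d hd f.b hb' e.a ha).1, (sg_par d hd e.b hb f.a ha').1]
    simp only [sg_xor]
    rcases sg d e.b z.1 <;> rcases sg d e.b e.a <;> rcases sg d e.b f.a <;>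
      rcases sg d f.b z.1 <;> rcases sg d f.b e.a <;> rcases sg d f.b f.a <;> simp [sign]
  linear_combination ((e.c : K) * f.c * v ⟨(z.1 ^^^ f.a) ^^^ e.a,
    Nat.xor_lt_two_pow (Nat.xor_lt_two_pow z.2 ha') ha⟩) * hs

end Algebra

section Search

variable {G : Type u} [Group G] [Finite G] {V : Type u} [AddCommGroup V] [DistribMulAction G V]
  [Module K V] {d : ℕ}

theorem map_getD {α β : Type*} (f : α → β) (l : List α) (i : ℕ) (a : α) (b : β) :
    (i < l.length ∧ (l.map f).getD i b = f (l.getD i a)) ∨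
      (l.length ≤ i ∧ (l.map f).getD i b = b) := by
  rcases Nat.lt_or_ge i l.length with h | h
  · left
    simp [List.getD_eq_getElem?_getD, h]
  · right
    simp [List.getD_eq_getElem?_getD, h]

/-- The hypotheses kept along the search. -/
structure Step (Φ : (Fin (2 ^ d) → K) →ₗ[K] V) (g : G) (ims ims' : List Vec) : Prop where
  len : ims.length = ims'.length
  wf : ∀ v ∈ ims, Vec.Wf p d v
  wf' : ∀ v ∈ ims', Vec.Wf p d v
  sends : ∀ i, Sends Φ g (ims.getD i (Vec.zero d)) (ims'.getD i (Vec.zero d))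

theorem step_next {Φ : (Fin (2 ^ d) → K) →ₗ[K] V} {g : G} {ims ims' : List Vec}
    (h : Step (p := p) Φ g ims ims') {e C : El} (hC : Image (p := p) Φ g e C) :
    Step (p := p) Φ g (ims ++ ims.map (e.act p d)) (ims' ++ ims'.map (C.act p d)) := by
  refine ⟨by simp [h.len], ?_, ?_, fun i => ?_⟩
  · intro v hv
    rcases List.mem_append.1 hv with hv | hv
    · exact h.wf v hv
    · obtain ⟨w, hw, rfl⟩ := List.mem_map.1 hv; exact act_wf (h.wf w hw) e
  · intro v hv
    rcases List.mem_append.1 hv with hv | hv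
    · exact h.wf' v hv
    · obtain ⟨w, hw, rfl⟩ := List.mem_map.1 hv; exact act_wf (h.wf' w hw) C
  · rcases Nat.lt_or_ge i ims.length with hi | hi
    · rw [List.getD_append _ _ _ _ hi, List.getD_append _ _ _ _ (h.len ▸ hi)]
      exact h.sends i
    · rw [List.getD_append_right _ _ _ _ hi, List.getD_append_right _ _ _ _ (h.len ▸ hi), ← h.len]
      rcases map_getD (e.act p d) ims (i - ims.length) (Vec.zero d) (Vec.zero d) with ⟨h1, h2⟩ | ⟨h1, h2⟩ <;>
        rcases map_getD (C.act p d) ims' (i - ims.length) (Vec.zero d) (Vec.zero d) with ⟨h3, h4⟩ | ⟨h3, h4⟩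
      · rw [h2, h4]
        refine hC _ _ ?_ ?_ (h.sends _)
        · rw [List.getD_eq_getElem _ _ h1]; exact h.wf _ (List.getElem_mem h1)
        · rw [List.getD_eq_getElem _ _ h3]; exact h.wf' _ (List.getElem_mem h3)
      · exact absurd h1 (by have := h.len; omega)
      · exact absurd h3 (by have := h.len; omega)
      · rw [h2, h4]; simp [Sends, val_zero]

theorem pass_iff {C : El} {ss : List (Vec × Vec)} :
    pass p d C ss = true ↔ ∀ s ∈ ss, Vec.isZero (Vec.add p s.1 (C.act p d s.2)) = true := by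
  induction ss with
  | nil => simp [pass]
  | cons s ss ih => simp [pass, ih]

theorem sides_eq (ims : List Vec) (r : List (Terms × Terms)) :
    sides p d ims r = r.map fun x => (comb p d ims x.1, comb p d ims x.2) := by
  induction r with
  | nil => rfl
  | cons x r ih => simp [sides, ih]

@[simp] theorem forcePairs_eq {α : Type} : ∀ (t : List (Vec × Vec)) (k : List (Vec × Vec) → α),
    forcePairs t k = k t
  | [], k => by simp [forcePairs]
  | s :: t, k => by simp [forcePairs, forcePairs_eq t]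

theorem beqMats_iff : ∀ {s t : List (List Vec)}, beqMats s t = true ↔ s = t := by
  intro s
  induction s with
  | nil => rintro (_ | ⟨y, t⟩) <;> simp [beqMats]
  | cons x s ih => rintro (_ | ⟨y, t⟩) <;> simp [beqMats, ih, Vec.beqList_iff]

end Search

end Cfsg.Agent.H94.BaseTwo
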