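import Cfsg.Agent.H94.BaseTwo.CertModel

/-!
Small models have regular pairs once the certificates of their shapes are valid.
-/

set_option autoImplicit false
set_option linter.unusedSectionVars false
set_option linter.style.haveILetI false

namespace Cfsg.Agent.H94.BaseTwo

open Cfsg.Agent.H86.BaseThree Cfsg.Agent.H86.BaseTwo Cfsg.Agent.H52.RegPair

universe u

/-- A valid list of certificates for a shape. -/
def Valid (p d : ℕ) (minus : Bool) : Prop :=
  ∃ (certs : List (PairCert × List (List Vec))) (tree : Tree),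
    (∀ x ∈ certs, goodPair p d minus x.1 x.2 = true) ∧
      refute p d (certs.map Prod.snd) [] tree = true

theorem smallModels_of_valid (h32 : Valid 3 2 false) (h33 : Valid 3 3 false) (h34 : Valid 3 4 false)
    (h33m : Valid 3 3 true) (h52 : Valid 5 2 false) (h53 : Valid 5 3 false) (h54 : Valid 5 4 false) :
    SmallModels.{u} := by
  intro p hp G _ _ V _ _ _ _ _ K _ _ _ L S hG hK hS hM
  obtain ⟨d, minus⟩ := S
  obtain ⟨M⟩ := hM
  haveI : CharP K p := (CharP.charP_iff_prime_eq_zero hp.out).2 (by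
    haveI := Fintype.ofFinite K
    rw [← hK, Nat.card_eq_fintype_card]
    exact FiniteField.cast_card_eq_zero K)
  obtain ⟨hv, hd0, hd5, hp2⟩ : Valid p d minus ∧ 0 < d ∧ d < 5 ∧ p ≠ 2 := by
    simp only [SmallShape, Finset.mem_insert, Finset.mem_singleton] at hS
    rcases hS with ⟨rfl, rfl, rfl | rfl | rfl⟩ | ⟨rfl, rfl, rfl⟩ | ⟨rfl, rfl, rfl | rfl | rfl⟩ <;>
      exact ⟨by assumption, by norm_num, by norm_num, by norm_num⟩
  obtain ⟨certs, tree, h1, h2⟩ := hv
  exact reg1_of_certs hK hp2 hG hd0 hd5 M certs tree h1 h2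

end Cfsg.Agent.H94.BaseTwo
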